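import Mathlib
import Cfsg.Agent.Prune
set_option linter.all false
prune_inst 0x7f00000000000000000000000000000000000000000000000000000000000000000000000000000000000000000000000000000000000000000000000000000000000000000000000000000000000000003fffffffffffffffffffffffffffbeffbdffffffff
open scoped Cfsg.Agent.FastGrp

/-!
# Automorphisms of prime order moving the class of an element (helper716)

`Mov p α x` : for every group `A` of automorphisms containing `α` and all inner automorphisms, `p` divides the length of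
the `A`-orbit of `x` (index of the stabiliser of `x` in `A`).

* `Mov.of_zpowers` : `α e ∈ ⟨e⟩`, `α e ≠ e` for some `e ∈ ⟨x⟩`;
* `Mov.of_forall` : no automorphism of order `p` fixes `x`;
* `Mov.of_dvd` : a number dividing `orderOf x` which does not divide the order of the fixed points of the
  automorphisms of order `p`;
* `Mov.congr` : transport.

`TRow r K` : for every prime `p` not dividing `#K` and every automorphism `α` of order `p` there are commuting elements
`e`, `u` with `r ∣ orderOf u`, `orderOf e` prime to `orderOf u`, `α e ∈ ⟨e⟩`, `α e ≠ e`.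

`ERow r K` : for every prime `p` not dividing `#K` and every automorphism `α` of order `p` there is an element `x` of
order divisible by `r` with `Mov p α x`.
-/

set_option autoImplicit false

namespace Cfsg.Agent.H716.CopRow

open Subgroup

universe u v

/-- `p` divides the length of the orbit of `x` under every group of automorphisms containing `α` and the inner
automorphisms. -/
def Mov (p : ℕ) {S : Type*} [Group S] (α : MulAut S) (x : S) : Prop :=
  ∀ A : Subgroup (MulAut S), α ∈ A → (MulAut.conj : S →* MulAut S).range ≤ A →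
    p ∣ (MulAction.stabilizer (MulAut S) x).relIndex A

/-- For every automorphism `α` of prime order `p ∤ #K` there is an element of order divisible by `r` with `Mov p α x`. -/
def ERow (r : ℕ) (K : Type*) [Group K] : Prop :=
  ∀ p : ℕ, p.Prime → ¬ p ∣ Nat.card K → ∀ α : MulAut K, orderOf α = p → ∃ x : K, r ∣ orderOf x ∧ Mov p α x

/-- Commuting elements `e`, `u` of coprime orders, `r ∣ orderOf u`, `α` normalises but does not centralise `⟨e⟩`. -/
def TRow (r : ℕ) (K : Type*) [Group K] : Prop :=
  ∀ p : ℕ, p.Prime → ¬ p ∣ Nat.card K → ∀ α : MulAut K, orderOf α = p →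
    ∃ e u : K, Commute e u ∧ r ∣ orderOf u ∧ (orderOf e).Coprime (orderOf u) ∧ α e ∈ zpowers e ∧ α e ≠ e

section

variable {S : Type u} [Group S] {p : ℕ} {α : MulAut S} {x : S}

theorem Mov.of_dvd_relIndex {y : S} (hle : MulAction.stabilizer (MulAut S) x ≤ MulAction.stabilizer (MulAut S) y)
    (h : Mov p α y) : Mov p α x := by
  intro A hA hI
  exact (h A hA hI).trans (Subgroup.relIndex_dvd_of_le_left A hle)

theorem stab_zpowers_le {e : S} (he : e ∈ zpowers x) :
    MulAction.stabilizer (MulAut S) x ≤ MulAction.stabilizer (MulAut S) e := by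
  intro β hβ
  obtain ⟨k, rfl⟩ := he
  have h1 : β x = x := hβ
  show β (x ^ k) = x ^ k
  rw [map_zpow, h1]

/-- **First criterion.** -/
theorem Mov.of_zpowers [Finite S] [hp : Fact p.Prime] (hα : orderOf α = p) {e : S} (he : e ∈ zpowers x)
    (h1 : α e ∈ zpowers e) (h2 : α e ≠ e) : Mov p α x := by
  refine Mov.of_dvd_relIndex (stab_zpowers_le he) ?_
  intro A hA _
  -- the normaliser of `⟨e⟩`
  let N : Subgroup (MulAut S) :=
    { carrier := {β | ∀ z, β z ∈ zpowers e ↔ z ∈ zpowers e}
      one_mem' := fun z => Iff.rfl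
      mul_mem' := fun {a b} ha hb z => by rw [MulAut.mul_apply, ha, hb]
      inv_mem' := fun {a} ha z => by rw [← ha (a⁻¹ z), MulAut.apply_inv_self] }
  have hαN : α ∈ N := by
    have hinj : (zpowers e).map (α : MulAut S).toMonoidHom = zpowers e := by
      apply Subgroup.eq_of_le_of_card_ge
      · rw [MonoidHom.map_zpowers, zpowers_le]
        exact h1
      · rw [Subgroup.card_map_of_injective α.injective]
    intro z
    constructor
    · intro h
      rw [← hinj] at h
      obtain ⟨w, hw, e1⟩ := h
      have : w = z := α.injective e1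
      exact this ▸ hw
    · intro h
      rw [← hinj]
      exact ⟨z, h, rfl⟩
  -- the stabiliser of `e` is normal in `N`
  let ρ : ↥(N ⊓ A) →* MulAut (zpowers e) :=
    { toFun := fun β =>
        { toFun := fun z => ⟨(β : MulAut S) z, (β.2.1 z).2 z.2⟩
          invFun := fun z => ⟨(β : MulAut S)⁻¹ z, by
            have := (β.2.1 ((β : MulAut S)⁻¹ z)).1
            rw [MulAut.apply_inv_self] at this
            exact this z.2⟩
          left_inv := fun z => Subtype.ext (MulAut.inv_apply_self _ (β : MulAut S) (z : S))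
          right_inv := fun z => Subtype.ext (MulAut.apply_inv_self _ (β : MulAut S) (z : S))
          map_mul' := fun a b => Subtype.ext (map_mul _ _ _) }
      map_one' := by ext z; rfl
      map_mul' := fun a b => by ext z; rfl }
  have hker : ρ.ker = (MulAction.stabilizer (MulAut S) e).subgroupOf (N ⊓ A) := by
    ext β
    rw [MonoidHom.mem_ker, mem_subgroupOf, MulAction.mem_stabilizer_iff]
    constructor
    · intro h
      have := congrArg (fun γ : MulAut (zpowers e) => ((γ ⟨e, mem_zpowers e⟩ : zpowers e) : S)) h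
      exact this
    · intro h
      ext ⟨z, hz⟩
      obtain ⟨k, rfl⟩ := hz
      show (β : MulAut S) (e ^ k) = e ^ k
      rw [map_zpow]
      exact congrArg (· ^ k) h
  have h3 : p ∣ (MulAction.stabilizer (MulAut S) e).relIndex (N ⊓ A) := by
    rw [Subgroup.relIndex, ← hker]
    have hfin : Finite (MulAut S) := inferInstance
    rw [Subgroup.index_ker]
    have h4 : orderOf (ρ ⟨α, hαN, hA⟩) = p := by
      refine orderOf_eq_prime ?_ ?_
      · rw [← map_pow]
        have : (⟨α, hαN, hA⟩ : ↥(N ⊓ A)) ^ p = 1 := by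
          apply Subtype.ext
          rw [SubmonoidClass.coe_pow, Subgroup.coe_one, ← hα, pow_orderOf_eq_one]
        rw [this, map_one]
      · intro h
        apply h2
        have := congrArg (fun γ : MulAut (zpowers e) => ((γ ⟨e, mem_zpowers e⟩ : zpowers e) : S)) h
        exact this
    rw [← h4]
    have h5 : orderOf (⟨ρ ⟨α, hαN, hA⟩, ⟨_, rfl⟩⟩ : ρ.range) = orderOf (ρ ⟨α, hαN, hA⟩) :=
      Subgroup.orderOf_mk _ _
    rw [← h5]
    exact orderOf_dvd_natCard _
  -- pass from `N ∩ A` to `A`
  have hle : MulAction.stabilizer (MulAut S) e ≤ N := by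
    intro β hβ z
    have hβ' : β e = e := hβ
    constructor
    · rintro ⟨k, hk⟩
      refine ⟨k, β.injective ?_⟩
      show β (e ^ k) = β z
      rw [map_zpow, hβ']
      exact hk
    · rintro ⟨k, rfl⟩
      refine ⟨k, ?_⟩
      show e ^ k = β (e ^ k)
      rw [map_zpow, hβ']
  have h4 : (MulAction.stabilizer (MulAut S) e ⊓ A).relIndex (N ⊓ A) * (N ⊓ A).relIndex A =
      (MulAction.stabilizer (MulAut S) e ⊓ A).relIndex A :=
    Subgroup.relIndex_mul_relIndex _ _ _ (inf_le_inf_right A hle) inf_le_right
  rw [Subgroup.inf_relIndex_right, Subgroup.inf_relIndex_right] at h4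
  rw [← h4]
  refine Dvd.dvd.mul_right ?_ _
  have h5 : (MulAction.stabilizer (MulAut S) e ⊓ A).relIndex (N ⊓ A) =
      (MulAction.stabilizer (MulAut S) e).relIndex (N ⊓ A) := by
    rw [← Subgroup.inf_relIndex_right (MulAction.stabilizer (MulAut S) e ⊓ A),
      ← Subgroup.inf_relIndex_right (MulAction.stabilizer (MulAut S) e)]
    congr 1
    ext β
    simp only [Subgroup.mem_inf]
    tauto
  rw [h5]
  exact h3

/-- **Second criterion.** -/
theorem Mov.of_forall [Finite S] [hp : Fact p.Prime] (hα : orderOf α = p)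
    (h : ∀ β : MulAut S, orderOf β = p → β x ≠ x) : Mov p α x := by
  intro A hA _
  have hfin : Finite (MulAut S) := inferInstance
  have h1 : p ∣ Nat.card A := by
    have : orderOf (⟨α, hA⟩ : A) = p := by rw [Subgroup.orderOf_mk, hα]
    rw [← this]
    exact orderOf_dvd_natCard _
  have h2 : ¬ p ∣ Nat.card ↥(MulAction.stabilizer (MulAut S) x ⊓ A) := by
    intro hd
    obtain ⟨β, hβ⟩ := exists_prime_orderOf_dvd_card' p hd
    refine h β ?_ β.2.1
    rw [Subgroup.orderOf_coe, hβ]
  have h3 : Nat.card ↥(MulAction.stabilizer (MulAut S) x ⊓ A) *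
      (MulAction.stabilizer (MulAut S) x ⊓ A).relIndex A = Nat.card A := by
    have h4 := Subgroup.card_mul_index ((MulAction.stabilizer (MulAut S) x ⊓ A).subgroupOf A)
    rwa [Nat.card_congr (Subgroup.subgroupOfEquivOfLe inf_le_right).toEquiv] at h4
  rw [Subgroup.inf_relIndex_right] at h3
  rw [← h3] at h1
  exact (hp.1.dvd_mul.1 h1).resolve_left h2

/-- the fixed points of `β` -/
def Fx (β : MulAut S) : Subgroup S := β.toMonoidHom.eqLocus (MonoidHom.id S)

theorem mem_Fx {β : MulAut S} {z : S} : z ∈ Fx β ↔ β z = z := Iff.rfl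

/-- **Third criterion.** -/
theorem Mov.of_dvd [Finite S] [hp : Fact p.Prime] (hα : orderOf α = p) {l : ℕ} (hl : l ∣ orderOf x)
    (h : ∀ β : MulAut S, orderOf β = p → ¬ l ∣ Nat.card (Fx β)) : Mov p α x := by
  refine Mov.of_forall hα fun β hβ hx => h β hβ ?_
  refine hl.trans ?_
  have : orderOf (⟨x, hx⟩ : Fx β) = orderOf x := Subgroup.orderOf_mk _ _
  rw [← this]
  exact orderOf_dvd_natCard _

/-- **Fourth criterion**: `e` and `u` commute, `u` is an `r`-element, `e` is not. -/
theorem exists_mov_of_commute [Finite S] [hp : Fact p.Prime] {r : ℕ} (hα : orderOf α = p) {e u : S}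
    (hc : Commute e u) (hu : r ∣ orderOf u) (he : (orderOf e).Coprime (orderOf u)) (h1 : α e ∈ zpowers e)
    (h2 : α e ≠ e) : ∃ x : S, r ∣ orderOf x ∧ Mov p α x := by
  have ho : orderOf (e * u) = orderOf e * orderOf u := hc.orderOf_mul_eq_mul_orderOf_of_coprime he
  refine ⟨e * u, ?_, Mov.of_zpowers hα ?_ h1 h2⟩
  · rw [ho]
    exact Dvd.dvd.mul_left hu _
  · obtain ⟨m, hm⟩ := Nat.chineseRemainder he 1 0
    have h3 : (e * u) ^ m = e := by
      rw [hc.mul_pow]
      have h4 : e ^ m = e := by
        conv_rhs => rw [← pow_one e]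
        exact pow_eq_pow_iff_modEq.2 hm.1
      have h5 : u ^ m = 1 := by
        rw [← pow_zero u]
        exact pow_eq_pow_iff_modEq.2 hm.2
      rw [h4, h5, mul_one]
    exact ⟨(m : ℤ), by show (e * u) ^ ((m : ℕ) : ℤ) = e; rw [zpow_natCast]; exact h3⟩

end

theorem TRow.eRow {S : Type*} [Group S] [Finite S] {r : ℕ} (h : TRow r S) : ERow r S := by
  intro p hp hpS α hα
  have : Fact p.Prime := ⟨hp⟩
  obtain ⟨e, u, h1, h2, h3, h4, h5⟩ := h p hp hpS α hα
  exact exists_mov_of_commute hα h1 h2 h3 h4 h5

section transport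

variable {S : Type u} [Group S] {L : Type v} [Group L] {p : ℕ}

theorem Mov.congr (f : S ≃* L) {α : MulAut S} {x : S} (h : Mov p α x) : Mov p (MulAut.congr f α) (f x) := by
  intro A hA hI
  have h1 := h (A.comap (MulAut.congr f).toMonoidHom) hA (by
    rintro _ ⟨s, rfl⟩
    apply hI
    refine ⟨f s, ?_⟩
    ext z
    show f s * z * (f s)⁻¹ = f (s * f.symm z * s⁻¹)
    simp)
  have h2 : MulAction.stabilizer (MulAut S) x =
      (MulAction.stabilizer (MulAut L) (f x)).comap (MulAut.congr f).toMonoidHom := by
    ext β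
    rw [MulAction.mem_stabilizer_iff, Subgroup.mem_comap, MulAction.mem_stabilizer_iff]
    show β x = x ↔ f (β (f.symm (f x))) = f x
    rw [f.symm_apply_apply]
    exact f.injective.eq_iff.symm
  rw [h2, Subgroup.relIndex_comap, Subgroup.map_comap_eq_self_of_surjective] at h1
  · exact h1
  · exact (MulAut.congr f).surjective

theorem TRow.congr {r : ℕ} (f : S ≃* L) (h : TRow r S) : TRow r L := by
  intro p hp hpL α hα
  obtain ⟨e, u, h1, h2, h3, h4, h5⟩ := h p hp (by rwa [Nat.card_congr f.toEquiv]) (MulAut.congr f.symm α)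
    (by rw [MulEquiv.orderOf_eq, hα])
  have h6 : ∀ z, f (MulAut.congr f.symm α z) = α (f z) := by
    intro z
    show f (f.symm (α (f z))) = α (f z)
    rw [f.apply_symm_apply]
  refine ⟨f e, f u, h1.map f, by rwa [MulEquiv.orderOf_eq], by rwa [MulEquiv.orderOf_eq, MulEquiv.orderOf_eq], ?_, ?_⟩
  · obtain ⟨k, hk⟩ := h4
    refine ⟨k, ?_⟩
    show f e ^ k = α (f e)
    rw [← h6, ← map_zpow]
    exact congrArg f hk
  · rw [← h6]
    exact fun h => h5 (f.injective h)

theorem ERow.congr {r : ℕ} (f : S ≃* L) (h : ERow r S) : ERow r L := by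
  intro p hp hpL α hα
  obtain ⟨x, hx, hm⟩ := h p hp (by rwa [Nat.card_congr f.toEquiv]) (MulAut.congr f.symm α)
    (by rw [MulEquiv.orderOf_eq, hα])
  refine ⟨f x, by rwa [MulEquiv.orderOf_eq], ?_⟩
  have h1 := hm.congr f
  have h2 : MulAut.congr f (MulAut.congr f.symm α) = α := by
    ext z
    show f (f.symm (α (f (f.symm z)))) = α z
    simp
  rwa [h2] at h1

end transport

end Cfsg.Agent.H716.CopRow
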