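import Cfsg.Agent.H716.RGDAbMinus
import Cfsg.Agent.Mrg.Omega.ML.Ex.Ext
import Cfsg.Agent.Prune
set_option linter.all false
prune_inst 0x7f00000000000000000000000000000000000000000000000000000000000000000000000000000000000000000000000000000000000000000000000000000000000000000000000000000000000000003fffffffffffffffffffffffffffbeffbdffffffff
open scoped Cfsg.Agent.FastGrp

/-!
# Split (B,N)-pairs with `B / U` abelian: every finite simple group of Lie type, every characteristic (helper716)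

* **`hasSplitAb_of_lie`** : `IsLieTypeChar p K` ⇒ `HasSplitAb p K`.
-/

set_option autoImplicit false
set_option linter.unusedSectionVars false

namespace Cfsg.Agent.H716.SplitAb

open Cfsg Subgroup
open Cfsg.Agent.FixBN Cfsg.Agent.H716.RGDAb
open Cfsg.Agent.Omega.ML.LieRow.CRB

universe u

theorem hasSplitAb_of_rgdAb {p : ℕ} (hp : p.Prime) {G : Type*} [Group G] [IsSimpleGroup G]
    (h : HasRGDAb p G) : HasSplitAb p G := by
  obtain ⟨l, M, A, h, T, n, X, hW, R, hX, hab⟩ := h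
  rcases Nat.eq_zero_or_pos l with rfl | hl
  · exfalso
    have h1 : Nodes.RGDLib.G1 M.toCoxeterSystem h X = ⊥ := by
      rw [eq_bot_iff]
      unfold Nodes.RGDLib.G1 Nodes.BNOf.RGD.Sup
      refine iSup_le ?_
      rintro ⟨x, w, i, -⟩
      exact i.elim0
    rw [h1] at hX
    obtain ⟨x, y, hxy⟩ := exists_pair_ne G
    have h2 : ∀ z : G, z = 1 := fun z => mem_bot.1 (by rw [hX]; trivial)
    exact hxy ((h2 x).trans (h2 y).symm)
  · have : Nonempty (Fin l) := ⟨⟨0, hl⟩⟩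
    exact hasSplitAb_of_rgd hp R hX hab

section ree

open Cfsg.Agent.FixBN.ReeSplit Cfsg.Agent.LieRecognition.ReeAbs Cfsg.Agent.LieRecognition.ReeSylowThree

theorem hasSplitAb_Ree {K : Type*} [Field K] [Fintype K] {m : ℕ} (hK : Fintype.card K = 3 ^ (2 * m + 1)) :
    HasSplitAb 3 ↥(Cfsg.Lie.twistedG2 K (3 ^ m)) := by
  obtain ⟨U, h, n, D⟩ := Cfsg.Agent.ChevalleyStructure.Ree.Data.exists_data hK
  refine ⟨bnPair D, uSub D, ⟨n, rfl⟩, split hK D, ?_⟩
  refine comm_of_dec (D := {g | ∃ a, g = h a}) (split hK D).norm ?_ ?_ ?_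
  · rintro _ ⟨a, rfl⟩
    exact h_mem_bSub D a
  · intro b hb
    obtain ⟨u, hu, a, rfl⟩ := hb
    exact ⟨u, hu, _, ⟨a, rfl⟩, rfl⟩
  · rintro _ ⟨a, rfl⟩ _ ⟨b, rfl⟩
    rw [← D.h_mul, ← D.h_mul, mul_comm]

end ree

theorem two_ne {p : ℕ} (hp2 : p ≠ 2) {F : Type*} [Field F] [Fintype F] [CharP F p] : (2 : F) ≠ 0 := by
  have : Fact p.Prime := Nodes.RGDClass.fact_prime (F := F)
  intro h2
  have h3 : ((2 : ℕ) : F) = 0 := by exact_mod_cast h2
  rw [CharP.cast_eq_zero_iff F p 2, Nat.prime_dvd_prime_iff_eq Fact.out Nat.prime_two] at h3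
  exact hp2 h3

theorem hasSplitAb_of_lie_odd {p : ℕ} (hp : p.Prime) (hp2 : p ≠ 2) {G : Type u} [Group G] [IsSimpleGroup G]
    (h : IsLieTypeChar p G) : HasSplitAb p G := by
  have : Fact p.Prime := ⟨hp⟩
  rcases h with h | h | h | h | h | h | h | h | h | h | h
  · obtain ⟨F, _, _, _, n, hn, -, ⟨e⟩⟩ := h
    obtain ⟨n, rfl⟩ : ∃ k, n = k + 1 := ⟨n - 1, by omega⟩
    exact hasSplitAb_of_rgdAb hp ((ab_PSL n).of_equiv e.symm)
  · obtain ⟨F, _, _, _, m, hm, -, ⟨e⟩⟩ := h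
    exact hasSplitAb_of_rgdAb hp ((ab_PSp (by omega)).of_equiv e.symm)
  · obtain ⟨F, _, _, _, n, q, hF, hn, -, ⟨e⟩⟩ := h
    exact hasSplitAb_of_rgdAb hp ((ab_PSU hF hn).of_equiv e.symm)
  · obtain ⟨F, _, _, _, m, hm, hodd, ⟨e⟩⟩ := h
    exact hasSplitAb_of_rgdAb hp ((ab_PO_odd (two_ne hp2) (by omega)).of_equiv e.symm)
  · obtain ⟨F, _, _, _, m, hm, ⟨e⟩⟩ := h
    obtain ⟨n, rfl⟩ : ∃ n, m = n + 3 := ⟨m - 3, by omega⟩
    exact hasSplitAb_of_rgdAb hp ((ab_PO_plus n).of_equiv e.symm)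
  · obtain ⟨F, _, _, _, m, a, b, hm, hab, ⟨e⟩⟩ := h
    exact hasSplitAb_of_rgdAb hp ((ab_PO_minus (two_ne hp2) hab (by omega)).of_equiv e.symm)
  · exact hasSplitAb_of_rgdAb hp (ab_exc h)
  · exact hasSplitAb_of_rgdAb hp (ab_tw h)
  · exact absurd h.1 hp2
  · exact absurd h.1 hp2
  · obtain ⟨rfl, K, _, _, m, hm, hK, ⟨e⟩⟩ := h
    exact HasSplitAb.congr e.symm (hasSplitAb_Ree hK)

/-- **Every finite simple group of Lie type in characteristic `p` has a split (B,N)-pair of characteristic `p` with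
`B / U` abelian.** -/
theorem hasSplitAb_of_lie {p : ℕ} (hp : p.Prime) {G : Type u} [Group G] [Finite G] [IsSimpleGroup G]
    (h : IsLieTypeChar p G) : HasSplitAb p G := by
  rcases eq_or_ne p 2 with rfl | hp2
  · exact Cfsg.Agent.Omega.ML.LieRow.CRB.hasSplitAb_of_lie inferInstance h
  · exact hasSplitAb_of_lie_odd hp hp2 h

end Cfsg.Agent.H716.SplitAb
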